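/-
Arithmetic of orders of semisimple elements with self-reciprocal characteristic polynomial.
Main results (namespace `Cfsg.Agent.SelfDualOrder`): `exists_exponent_bound`, `exists_class_data`.
-/
import Cfsg.Agent.EqLemmas

set_option autoImplicit false
set_option linter.unusedSectionVars false

namespace Cfsg.Agent.SelfDualOrder

/-- The largest power of two dividing `j`. -/
def twoPart (j : ℕ) : ℕ := 2 ^ padicValNat 2 j

theorem exists_odd_mul (j : ℕ) (hj : j ≠ 0) : ∃ u, Odd u ∧ j = twoPart j * u := by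
  haveI : Fact (Nat.Prime 2) := ⟨Nat.prime_two⟩
  obtain ⟨u, hu⟩ : twoPart j ∣ j := pow_padicValNat_dvd
  refine ⟨u, ?_, hu⟩
  rw [← Nat.not_even_iff_odd, even_iff_two_dvd]
  rintro ⟨w, rfl⟩
  have : 2 ^ (padicValNat 2 j + 1) ∣ j := ⟨w, by rw [pow_succ]; exact hu.trans (by rw [twoPart]; ring)⟩
  exact pow_succ_padicValNat_not_dvd hj this

theorem twoPart_dvd {q j : ℕ} (hj : j ≠ 0) : q ^ twoPart j + 1 ∣ q ^ j + 1 := by
  obtain ⟨u, hu, hju⟩ := exists_odd_mul j hj
  have := hu.nat_add_dvd_pow_add_pow (q ^ twoPart j) 1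
  rwa [one_pow, ← pow_mul, ← hju] at this

theorem twoPart_le {j : ℕ} (hj : j ≠ 0) : twoPart j ≤ j := Nat.le_of_dvd (Nat.pos_of_ne_zero hj) pow_padicValNat_dvd

/-- The product over distinct powers of two. -/
theorem prod_two_powers {q : ℕ} (hq : 2 ≤ q) (n : ℕ) (V : Finset ℕ) (hV : V ⊆ Finset.range n) :
    (q - 1) * ∏ v ∈ V, (q ^ 2 ^ v + 1) ≤ q ^ (∑ v ∈ V, 2 ^ v + 1) := by
  have htel : ∀ k, (q - 1) * ∏ v ∈ Finset.range k, (q ^ 2 ^ v + 1) + 1 = q ^ 2 ^ k := by
    intro k
    induction k with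
    | zero => simp; omega
    | succ k ih =>
      rw [Finset.prod_range_succ, pow_succ, pow_mul, sq, ← mul_assoc]
      set x := q ^ 2 ^ k
      set y := (q - 1) * ∏ v ∈ Finset.range k, (q ^ 2 ^ v + 1)
      have : x = y + 1 := ih.symm
      rw [this]; ring
  have hsum : ∀ k, ∑ v ∈ Finset.range k, 2 ^ v + 1 = 2 ^ k := by
    intro k
    induction k with
    | zero => simp
    | succ k ih => rw [Finset.sum_range_succ, pow_succ]; omega
  set W := Finset.range n \ V
  have hpos : 0 < q ^ ∑ v ∈ W, 2 ^ v := pow_pos (by omega) _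
  refine Nat.le_of_mul_le_mul_right ?_ hpos
  rw [← pow_add, add_right_comm, ← Finset.sum_union (Finset.disjoint_sdiff), Finset.union_sdiff_of_subset hV, hsum]
  calc (q - 1) * (∏ v ∈ V, (q ^ 2 ^ v + 1)) * q ^ ∑ v ∈ W, 2 ^ v
      ≤ (q - 1) * (∏ v ∈ V, (q ^ 2 ^ v + 1)) * ∏ v ∈ W, (q ^ 2 ^ v + 1) := by
        rw [← Finset.prod_pow_eq_pow_sum]
        exact Nat.mul_le_mul_left _ (Finset.prod_le_prod' fun v _ => Nat.le_succ _)
    _ = (q - 1) * ∏ v ∈ Finset.range n, (q ^ 2 ^ v + 1) := by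
        rw [mul_assoc, ← Finset.prod_union Finset.disjoint_sdiff, Finset.union_sdiff_of_subset hV]
    _ ≤ q ^ 2 ^ n := by rw [← htel n]; exact Nat.le_succ _

/-- A common multiple of the numbers `q ^ j + 1`. -/
theorem exists_exponent_bound {q : ℕ} (hq : 2 ≤ q) (T : Finset ℕ) (hT : 0 ∉ T) :
    ∃ L, 0 < L ∧ (∀ j ∈ T, q ^ j + 1 ∣ L) ∧ (q - 1) * L ≤ q ^ (∑ j ∈ T, j + 1) := by
  classical
  have hne : ∀ j ∈ T, j ≠ 0 := fun j hj h => hT (h ▸ hj)
  set V := T.image (padicValNat 2) with hV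
  let R : ℕ → ℕ := fun j => (q ^ j + 1) / (q ^ twoPart j + 1)
  have hR : ∀ j ∈ T, (q ^ twoPart j + 1) * R j = q ^ j + 1 := fun j hj => Nat.mul_div_cancel' (twoPart_dvd (hne j hj))
  have hRpos : ∀ j ∈ T, 0 < R j := fun j hj => Nat.pos_of_ne_zero fun e => by
    have := hR j hj; rw [e, mul_zero] at this; omega
  have hRle : ∀ j ∈ T, R j ≤ q ^ (j - twoPart j) := by
    intro j hj
    refine Nat.le_of_mul_le_mul_left ?_ (Nat.succ_pos (q ^ twoPart j))
    rw [hR j hj, Nat.succ_mul, ← pow_add, Nat.add_sub_cancel' (twoPart_le (hne j hj))]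
    exact Nat.add_le_add_left (Nat.one_le_pow _ _ (by omega)) _
  refine ⟨(∏ v ∈ V, (q ^ 2 ^ v + 1)) * ∏ j ∈ T, R j, Nat.mul_pos (Finset.prod_pos fun v _ => Nat.succ_pos _)
    (Finset.prod_pos hRpos), fun j hj => ?_, ?_⟩
  · rw [← hR j hj]
    exact mul_dvd_mul (Finset.dvd_prod_of_mem (fun v => q ^ 2 ^ v + 1) (Finset.mem_image_of_mem _ hj))
      (Finset.dvd_prod_of_mem R hj)
  · obtain ⟨n, hn⟩ := Finset.exists_nat_subset_range V
    calc (q - 1) * ((∏ v ∈ V, (q ^ 2 ^ v + 1)) * ∏ j ∈ T, R j)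
        ≤ q ^ (∑ v ∈ V, 2 ^ v + 1) * q ^ ∑ j ∈ T, (j - twoPart j) := by
          rw [← mul_assoc, ← Finset.prod_pow_eq_pow_sum]
          exact Nat.mul_le_mul (prod_two_powers hq n V hn) (Finset.prod_le_prod' hRle)
      _ ≤ q ^ (∑ j ∈ T, j + 1) := by
          rw [← pow_add]
          refine Nat.pow_le_pow_right (by omega) ?_
          have h1 : ∑ v ∈ V, 2 ^ v ≤ ∑ j ∈ T, twoPart j :=
            Finset.sum_image_le_of_nonneg (f := fun v => 2 ^ v) fun _ _ => Nat.zero_le _
          have h2 : ∑ j ∈ T, (j - twoPart j) + ∑ j ∈ T, twoPart j = ∑ j ∈ T, j := by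
            rw [← Finset.sum_add_distrib]
            exact Finset.sum_congr rfl fun j hj => Nat.sub_add_cancel (twoPart_le (hne j hj))
          omega

variable {K : Type*} [Field K] [DecidableEq K] {q : ℕ}

/-- The class of an element under inversion and the q-th power. -/
theorem exists_class {S : Finset K} (hinv : ∀ x ∈ S, x⁻¹ ∈ S) (hfr : ∀ x ∈ S, x ^ q ∈ S)
    (hinj : Function.Injective fun x : K => x ^ q) {α : K} (hα : α ∈ S) (h0 : α ≠ 0) (hne : α⁻¹ ≠ α)
    {k : ℕ} (hk : 0 < k) (hper : α ^ q ^ k = α) :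
    ∃ (C : Finset K) (j : ℕ), 1 ≤ j ∧ C ⊆ S ∧ α ∈ C ∧ C.card = 2 * j ∧ (∀ x ∈ C, x⁻¹ ∈ C) ∧
      (∀ x ∈ C, x ^ q ∈ C) ∧ ((∀ x ∈ C, x ^ (q ^ j + 1) = 1) ∨ ∀ x ∈ C, x ^ (q ^ j - 1) = 1) := by
  let f : K → K := fun x => x ^ q
  have hit : ∀ i x, f^[i] x = x ^ q ^ i := by
    intro i
    induction i with
    | zero => simp
    | succ i ih => intro x; rw [Function.iterate_succ', Function.comp_apply, ih, pow_succ, pow_mul]
  have hperk : Function.IsPeriodicPt f k α := by
    show f^[k] α = α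
    rw [hit, hper]
  have hmem : α ∈ Function.periodicPts f := Function.mk_mem_periodicPts hk hperk
  set d := Function.minimalPeriod f α
  have hd0 : 0 < d := Function.minimalPeriod_pos_of_mem_periodicPts hmem
  have hd : α ^ q ^ d = α := by rw [← hit]; exact Function.iterate_minimalPeriod
  set O := (Finset.range d).image fun i => α ^ q ^ i
  have hOS : O ⊆ S := by
    have hall : ∀ i, α ^ q ^ i ∈ S := by
      intro i
      induction i with
      | zero => simpa using hα
      | succ i ih => rw [pow_succ, pow_mul]; exact hfr _ ih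
    intro x hx
    obtain ⟨i, -, rfl⟩ := Finset.mem_image.1 hx
    exact hall i
  have hOcard : O.card = d := by
    rw [Finset.card_image_of_injOn, Finset.card_range]
    intro a ha b hb hab
    refine Function.iterate_injOn_Iio_minimalPeriod (f := f) (x := α) ?_ ?_ ?_
    · simpa using ha
    · simpa using hb
    · simpa only [hit] using hab
  have hmemO : ∀ i, α ^ q ^ i ∈ O := fun i => Finset.mem_image.2 ⟨i % d, Finset.mem_range.2 (Nat.mod_lt _ hd0),
    by rw [← hit, ← hit]; exact Function.iterate_mod_minimalPeriod_eq⟩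
  have hOfr : ∀ x ∈ O, x ^ q ∈ O := fun x hx => by
    obtain ⟨i, -, rfl⟩ := Finset.mem_image.1 hx
    rw [← pow_mul, ← pow_succ]
    exact hmemO _
  have hOfix : ∀ x ∈ O, x ^ q ^ d = x := fun x hx => by
    obtain ⟨i, -, rfl⟩ := Finset.mem_image.1 hx
    rw [← pow_mul, mul_comm, pow_mul, hd]
  have hO0 : ∀ x ∈ O, x ≠ 0 := fun x hx => by
    obtain ⟨i, -, rfl⟩ := Finset.mem_image.1 hx
    exact pow_ne_zero _ h0
  by_cases hminus : α⁻¹ ∈ O
  · obtain ⟨i, hi, hiα⟩ := Finset.mem_image.1 hminus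
    rw [Finset.mem_range] at hi
    have h2 : α ^ q ^ (i + i) = α := by rw [pow_add, pow_mul, hiα, inv_pow, hiα, inv_inv]
    have hdvd : d ∣ i + i := Function.IsPeriodicPt.minimalPeriod_dvd (show f^[i + i] α = α by rw [hit, h2])
    have hi0 : i ≠ 0 := fun e => hne (by rw [← hiα, e, pow_zero, pow_one])
    obtain ⟨w, hw⟩ := hdvd
    have hw1 : w = 1 := by
      rcases w with _ | _ | w
      · omega
      · rfl
      · have : 2 * d ≤ i + i := by rw [hw]; nlinarith
        omega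
    rw [hw1, mul_one] at hw
    refine ⟨O, i, Nat.one_le_iff_ne_zero.2 hi0, hOS, by simpa using hmemO 0, by omega, fun x hx => ?_, hOfr,
      Or.inl fun x hx => ?_⟩
    · obtain ⟨t, -, rfl⟩ := Finset.mem_image.1 hx
      rw [← inv_pow, ← hiα, ← pow_mul, ← pow_add]
      exact hmemO _
    · obtain ⟨t, -, rfl⟩ := Finset.mem_image.1 hx
      rw [← pow_mul, mul_comm, pow_mul, pow_succ, hiα, inv_mul_cancel₀ h0, one_pow]
  · set O' := O.image fun x => x⁻¹
    have hdisj : Disjoint O O' := by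
      rw [Finset.disjoint_left]
      intro x hx hx'
      obtain ⟨y, hy, rfl⟩ := Finset.mem_image.1 hx'
      obtain ⟨s, -, rfl⟩ := Finset.mem_image.1 hy
      obtain ⟨t, ht, hts⟩ := Finset.mem_image.1 hx
      apply hminus
      have e : α⁻¹ = α ^ q ^ (t + (d - s % d)) := by
        rw [pow_add, pow_mul, hts, inv_pow, ← pow_mul, ← pow_add]
        congr 1
        rw [← hit]
        have h1 := Nat.div_add_mod s d
        have h2 : s + (d - s % d) = d * (s / d + 1) := by
          have := Nat.mod_lt s hd0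
          rw [mul_add, mul_one]; omega
        rw [h2]
        exact ((Function.isPeriodicPt_minimalPeriod f α).mul_const _).symm
      rw [e]; exact hmemO _
    refine ⟨O ∪ O', d, hd0, Finset.union_subset hOS ?_, Finset.mem_union_left _ (by simpa using hmemO 0), ?_, ?_, ?_,
      Or.inr fun x hx => ?_⟩
    · intro x hx
      obtain ⟨y, hy, rfl⟩ := Finset.mem_image.1 hx
      exact hinv _ (hOS hy)
    · rw [Finset.card_union_of_disjoint hdisj, Finset.card_image_of_injective _ inv_injective, hOcard]; ring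
    · intro x hx
      rcases Finset.mem_union.1 hx with h | h
      · exact Finset.mem_union_right _ (Finset.mem_image_of_mem _ h)
      · obtain ⟨y, hy, rfl⟩ := Finset.mem_image.1 h
        exact Finset.mem_union_left _ (by rwa [inv_inv])
    · intro x hx
      rcases Finset.mem_union.1 hx with h | h
      · exact Finset.mem_union_left _ (hOfr _ h)
      · obtain ⟨y, hy, rfl⟩ := Finset.mem_image.1 h
        exact Finset.mem_union_right _ (Finset.mem_image.2 ⟨y ^ q, hOfr _ hy, (inv_pow y q).symm⟩)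
    · rcases Finset.mem_union.1 hx with h | h
      · exact pow_sub_one_eq_one (hO0 _ h) (hOfix _ h)
      · obtain ⟨y, hy, rfl⟩ := Finset.mem_image.1 h
        exact pow_sub_one_eq_one (inv_ne_zero (hO0 _ hy)) (by rw [inv_pow, hOfix _ hy])
where
  pow_sub_one_eq_one {x : K} {n : ℕ} (hx : x ≠ 0) (h : x ^ q ^ n = x) : x ^ (q ^ n - 1) = 1 := by
    rcases Nat.eq_zero_or_pos (q ^ n) with e | e
    · rw [e]; simp
    · apply mul_right_cancel₀ hx
      rw [← pow_succ, Nat.sub_add_cancel e, one_mul, h]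

/-- The exponents of all classes. -/
theorem exists_class_data (hq : 2 ≤ q) (hinj : Function.Injective fun x : K => x ^ q)
    (hper : ∀ x : K, ∃ k, 0 < k ∧ x ^ q ^ k = x) : ∀ (n : ℕ) (S : Finset K), S.card = n →
    (∀ x ∈ S, x⁻¹ ∈ S) → (∀ x ∈ S, x ^ q ∈ S) → (∀ x ∈ S, x ≠ 0 ∧ x⁻¹ ≠ x) →
    ∃ (T : Finset ℕ) (A a : ℕ), 0 ∉ T ∧ 0 < A ∧ A ≤ q ^ a ∧ 2 ∣ S.card ∧ 2 * (a + ∑ j ∈ T, j) ≤ S.card ∧
      (∀ L, (∀ j ∈ T, q ^ j + 1 ∣ L) → ∀ x ∈ S, x ^ (A * L) = 1) ∧
      (Odd q → S.Nonempty → ∀ L, (∀ j ∈ T, q ^ j + 1 ∣ L) → 2 ∣ A * L) := by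
  intro n
  induction n using Nat.strong_induction_on with
  | _ n ih =>
    intro S hn hinv hfr hne
    rcases S.eq_empty_or_nonempty with rfl | ⟨α, hα⟩
    · exact ⟨∅, 1, 0, by simp, one_pos, by simp, by simp, by simp, fun _ _ x hx => by simp at hx,
        fun _ h => by simp at h⟩
    obtain ⟨k, hk, hkα⟩ := hper α
    obtain ⟨C, j, hj, hCS, hαC, hCcard, hCinv, hCfr, hC⟩ :=
      exists_class hinv hfr hinj hα (hne α hα).1 (hne α hα).2 hk hkα
    have hsub : (S \ C).card + C.card = S.card := Finset.card_sdiff_add_card_eq_card hCS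
    have hfr' : ∀ x ∈ S \ C, x ^ q ∈ S \ C := by
      intro x hx
      rw [Finset.mem_sdiff] at hx ⊢
      refine ⟨hfr x hx.1, fun h => ?_⟩
      have himg : C.image (fun y => y ^ q) = C := Finset.eq_of_subset_of_card_le
        (fun y hy => by obtain ⟨z, hz, rfl⟩ := Finset.mem_image.1 hy; exact hCfr z hz)
        (by rw [Finset.card_image_of_injective _ hinj])
      rw [← himg] at h
      obtain ⟨z, hz, hzx⟩ := Finset.mem_image.1 h
      exact hx.2 (hinj hzx ▸ hz)
    have hinv' : ∀ x ∈ S \ C, x⁻¹ ∈ S \ C := by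
      intro x hx
      rw [Finset.mem_sdiff] at hx ⊢
      exact ⟨hinv x hx.1, fun h => hx.2 (by simpa using hCinv _ h)⟩
    obtain ⟨T, A, a, hT, hA, hAa, h2, hsum, hpow, heven⟩ := ih (S \ C).card (by omega) (S \ C) rfl hinv' hfr'
      (fun x hx => hne x (Finset.mem_sdiff.1 hx).1)
    have h2S : 2 ∣ S.card := by omega
    rcases hC with hC | hC
    · refine ⟨insert j T, A, a, ?_, hA, hAa, h2S, ?_, ?_, ?_⟩
      · simp [hT]; omega
      · have : ∑ i ∈ insert j T, i ≤ j + ∑ i ∈ T, i := by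
          by_cases h : j ∈ T
          · rw [Finset.insert_eq_of_mem h]; omega
          · rw [Finset.sum_insert h]
        omega
      · intro L hL x hx
        by_cases hxC : x ∈ C
        · obtain ⟨w, hw⟩ := hL j (Finset.mem_insert_self _ _)
          rw [hw, mul_left_comm, pow_mul, hC x hxC, one_pow]
        · exact hpow L (fun i hi => hL i (Finset.mem_insert_of_mem hi)) x (Finset.mem_sdiff.2 ⟨hx, hxC⟩)
      · intro hodd _ L hL
        refine Dvd.dvd.mul_left (dvd_trans ?_ (hL j (Finset.mem_insert_self _ _))) A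
        exact even_iff_two_dvd.1 ((hodd.pow).add_one)
    · have hqj : 1 < q ^ j := Nat.one_lt_pow (by omega) (by omega)
      refine ⟨T, A * (q ^ j - 1), a + j, hT, Nat.mul_pos hA (by omega), ?_, h2S, by omega, ?_, ?_⟩
      · rw [pow_add]; exact Nat.mul_le_mul hAa (Nat.sub_le _ _)
      · intro L hL x hx
        rw [mul_right_comm]
        by_cases hxC : x ∈ C
        · rw [mul_comm, pow_mul, hC x hxC, one_pow]
        · rw [pow_mul, hpow L hL x (Finset.mem_sdiff.2 ⟨hx, hxC⟩), one_pow]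
      · intro hodd _ L hL
        exact Dvd.dvd.mul_right (Dvd.dvd.mul_left (even_iff_two_dvd.1 (Nat.Odd.sub_odd hodd.pow odd_one)) A) L

end Cfsg.Agent.SelfDualOrder
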