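/-
An element of a classical group of rank m has a power equal to 1 or -1 with exponent n, (q-1) n ≤ q^(m+1).
Main results (namespace `Cfsg.Agent.SelfDualOrder`): `exists_power_pm_one`, `exists_power_of_form`.
-/
import Cfsg.Agent.Lib.SelfDualOrder.Arith

set_option autoImplicit false
set_option linter.unusedSectionVars false

namespace Cfsg.Agent.SelfDualOrder

open Polynomial Matrix

variable {F : Type*} [Field F]

/-- The roots of a product of linear factors after reversal. -/
theorem reverse_prod {K : Type*} [Field K] (s : Multiset K) (h : (0 : K) ∉ s) :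
    ∃ c : K, c ≠ 0 ∧ (s.map fun a => X - C a).prod.reverse = C c * ((s.map (·⁻¹)).map fun a => X - C a).prod := by
  induction s using Multiset.induction with
  | empty => exact ⟨1, one_ne_zero, by
      rw [Multiset.map_zero, Multiset.prod_zero, Multiset.map_zero, Multiset.map_zero, Multiset.prod_zero, mul_one,
        ← C_1, reverse_C]⟩
  | cons a s ih =>
    rw [Multiset.mem_cons, not_or] at h
    obtain ⟨c, hc, hs⟩ := ih h.2
    refine ⟨-a * c, mul_ne_zero (neg_ne_zero.2 (Ne.symm h.1)) hc, ?_⟩
    have hr : (X - C a : K[X]).reverse = C (-a) * (X - C a⁻¹) := by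
      have e : C a * C a⁻¹ = (1 : K[X]) := by rw [← C_mul, mul_inv_cancel₀ (Ne.symm h.1), C_1]
      rw [sub_eq_add_neg X (C a), ← C_neg, reverse_add_C, natDegree_X, pow_one, C_neg]
      have : (X : K[X]).reverse = 1 := by rw [← one_mul (X : K[X]), reverse_mul_X, ← C_1, reverse_C]
      rw [this]
      linear_combination (-1 : K[X]) * e
    simp only [Multiset.map_cons, Multiset.prod_cons, reverse_mul_of_domain, hs, hr, C_mul]
    ring

variable [Fintype F] {ι : Type*} [Fintype ι] [DecidableEq ι]

theorem clog_le_half {p E r : ℕ} (hp : 2 ≤ p) (h : E ≤ 2 * r + 1) (h' : 3 ≤ p ∨ E ≤ 2 * r) :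
    Nat.clog p E ≤ r := by
  rw [Nat.clog_le_iff_le_pow (by omega)]
  rcases h' with hp3 | hE
  · refine h.trans (le_trans ?_ (Nat.pow_le_pow_left hp3 r))
    clear h
    induction r with
    | zero => simp
    | succ r ih => rw [pow_succ]; omega
  · refine hE.trans (le_trans ?_ (Nat.pow_le_pow_left hp r))
    clear h hE
    induction r with
    | zero => simp
    | succ r ih =>
      rw [pow_succ]
      rcases Nat.eq_zero_or_pos r with rfl | hr
      · simp
      · omega

theorem clog_le_pred {p E : ℕ} (hp : 2 ≤ p) : Nat.clog p E ≤ E - 1 := by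
  rw [Nat.clog_le_iff_le_pow (by omega)]
  rcases Nat.eq_zero_or_pos E with rfl | hE
  · simp
  · have := Nat.lt_pow_self (n := E - 1) (show 1 < p by omega)
    omega

theorem two_mul_le_three_pow {m : ℕ} (hm : 3 ≤ m) : 2 * m ≤ 3 ^ (m - 1) := by
  induction m, hm using Nat.le_induction with
  | base => norm_num
  | succ n hn ih =>
    rw [show n + 1 - 1 = (n - 1) + 1 by omega, pow_succ]
    omega

/-- A power of a matrix with self-reciprocal characteristic polynomial is `1` or `-1`. -/
theorem exists_power_pm_one (M : Matrix ι ι F) (hu : IsUnit M) (hsd : M⁻¹.charpoly = M.charpoly) (m : ℕ)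
    (hN : (Fintype.card ι = 2 * m ∧ 2 ≤ m) ∨ (Fintype.card ι = 2 * m + 1 ∧ 3 ≤ m ∧ Odd (Fintype.card F))) :
    ∃ n, 0 < n ∧ (Fintype.card F - 1) * n ≤ Fintype.card F ^ (m + 1) ∧ (M ^ n = 1 ∨ M ^ n = -1) := by
  classical
  set q := Fintype.card F with hqdef
  obtain ⟨p, hchar⟩ := CharP.exists F
  have hp : p.Prime := CharP.char_is_prime F p
  haveI := Fact.mk hp
  obtain ⟨f, -, hqp⟩ := FiniteField.card F p
  have hq2 : 2 ≤ q := Fintype.one_lt_card
  have hpq : p ≤ q := by
    rw [hqdef, hqp]; exact Nat.le_self_pow f.pos.ne' p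
  have hodd : Odd q ↔ p ≠ 2 := by
    rw [hqdef, hqp, Nat.odd_pow_iff f.pos.ne']
    exact ⟨fun h e => by rw [e] at h; exact absurd h (by decide), hp.odd_of_ne_two⟩
  haveI : Nonempty ι := Fintype.card_pos_iff.1 (by omega)
  haveI : CharP (Matrix ι ι F) p := inferInstance
  set χ := M.charpoly with hχ
  let K := χ.SplittingField
  let φ : F →+* K := algebraMap F K
  haveI : Finite K := inferInstance
  letI := Fintype.ofFinite K
  haveI : CharP K p := charP_of_injective_ringHom φ.injective p
  set χK := χ.map φ with hχK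
  have hmon : χK.Monic := (M.charpoly_monic).map _
  have hspl : χK.Splits := Polynomial.SplittingField.splits χ
  set s := χK.roots with hs
  have hscard : Multiset.card s = Fintype.card ι := by
    rw [hs, ← hspl.natDegree_eq_card_roots, hχK, natDegree_map, hχ, charpoly_natDegree_eq_dim]
  have hdet : M.det ≠ 0 := ((Matrix.isUnit_iff_isUnit_det M).1 hu).ne_zero
  have h0s : (0 : K) ∉ s := by
    intro h
    rw [hs, mem_roots hmon.ne_zero, IsRoot.def, hχK, eval_zero_map] at h
    have h1 : χ.eval 0 = 0 := φ.injective (h.trans (map_zero φ).symm)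
    rw [← coeff_zero_eq_eval_zero] at h1
    apply hdet
    rw [Matrix.det_eq_sign_charpoly_coeff, ← hχ, h1, mul_zero]
  have hprod : χK = (s.map fun a => X - C a).prod := hspl.eq_prod_roots_of_monic hmon
  have hsinv : s.map (·⁻¹) = s := by
    obtain ⟨c, hc, hrev⟩ := reverse_prod s h0s
    have h1 : χ = (-1) ^ Fintype.card ι * C (Ring.inverse M.det) * χ.reverse := by
      have h := Matrix.charpoly_inv M hu
      rwa [hsd, ← Matrix.reverse_charpoly] at h
    have h2 : χK = C ((-1) ^ Fintype.card ι * φ (Ring.inverse M.det)) * χK.reverse := by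
      have e : (χ.reverse).map φ = χK.reverse := by
        rw [hχK, reverse, reverse, natDegree_map, reflect_map]
      have e2 := congrArg (Polynomial.map φ) h1
      rw [Polynomial.map_mul, Polynomial.map_mul, Polynomial.map_pow, Polynomial.map_neg, Polynomial.map_one, map_C, e,
        ← hχK] at e2
      refine e2.trans ?_
      simp [C_mul, C_pow]
    have hne : ((-1) ^ Fintype.card ι * φ (Ring.inverse M.det) : K) * c ≠ 0 := by
      refine mul_ne_zero (mul_ne_zero (pow_ne_zero _ (neg_ne_zero.2 one_ne_zero)) ?_) hc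
      rw [_root_.map_ne_zero, Ring.inverse_eq_inv']
      exact inv_ne_zero hdet
    conv_rhs => rw [hs, h2]
    rw [hprod, hrev, ← mul_assoc, ← C_mul, roots_C_mul _ hne, roots_multiset_prod_X_sub_C]
  have hcount : ∀ x, s.count x⁻¹ = s.count x := fun x => by
    conv_lhs => rw [← hsinv]
    exact Multiset.count_map_eq_count' _ _ inv_injective x
  have hfrob : ∀ x ∈ s, x ^ q ∈ s := by
    intro x hx
    rw [hs, mem_roots hmon.ne_zero, IsRoot.def, hχK, eval_map] at hx ⊢
    have h1 : aeval (x ^ q) χ = FiniteField.frobeniusAlgHom F K (aeval x χ) := by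
      rw [← aeval_algHom_apply]; rfl
    rw [show eval₂ φ (x ^ q) χ = aeval (x ^ q) χ from rfl, h1, show aeval x χ = 0 from hx, map_zero]
  have hper : ∀ x : K, ∃ k, 0 < k ∧ x ^ q ^ k = x := fun x => ⟨Module.finrank F K, Module.finrank_pos, by
    rw [hqdef, ← Module.card_eq_pow_finrank, FiniteField.pow_card]⟩
  set S := s.toFinset.filter fun x => x⁻¹ ≠ x with hS
  have hSs : ∀ x ∈ S, x ∈ s := fun x hx => Multiset.mem_toFinset.1 (Finset.mem_filter.1 hx).1
  have hfinj : Function.Injective fun x : K => x ^ q := fun x y h => (FiniteField.frobeniusAlgHom F K).injective h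
  have hpm : ∀ x ∈ s, x ∉ S → x = 1 ∨ x = -1 := fun x hx hxS => by
    have hx0 : x ≠ 0 := fun e => h0s (e ▸ hx)
    have hinv : x⁻¹ = x := by
      by_contra hne
      exact hxS (Finset.mem_filter.2 ⟨Multiset.mem_toFinset.2 hx, hne⟩)
    refine mul_self_eq_one_iff.1 ?_
    conv_lhs => rw [← hinv]; skip
    rw [hinv]
    nth_rewrite 1 [← hinv]
    exact inv_mul_cancel₀ hx0
  obtain ⟨T, A, a, hT, hA, hAa, -, hsum, hpow, heven⟩ := exists_class_data hq2 hfinj hper S.card S rfl
    (fun x hx => Finset.mem_filter.2 ⟨Multiset.mem_toFinset.2 (Multiset.count_pos.1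
      ((hcount x).symm ▸ Multiset.count_pos.2 (hSs x hx))), fun e => (Finset.mem_filter.1 hx).2 (by
        rw [inv_inv] at e; exact e.symm)⟩)
    (fun x hx => Finset.mem_filter.2 ⟨Multiset.mem_toFinset.2 (hfrob x (hSs x hx)), fun e =>
      (Finset.mem_filter.1 hx).2 (hfinj (by simp only [inv_pow]; exact e))⟩)
    (fun x hx => ⟨fun e => h0s (e ▸ hSs x hx), (Finset.mem_filter.1 hx).2⟩)
  obtain ⟨L, hL, hLdvd, hLle⟩ := exists_exponent_bound hq2 T hT
  have hne : s.toFinset.Nonempty := by
    obtain ⟨x, hx⟩ := Multiset.card_pos_iff_exists_mem.1 (show 0 < Multiset.card s by omega)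
    exact ⟨x, Multiset.mem_toFinset.2 hx⟩
  obtain ⟨β, hβ, hmax⟩ := s.toFinset.exists_max_image (fun x => s.count x) hne
  set E := s.count β with hE
  have hEmax : ∀ x, s.count x ≤ E := fun x => by
    by_cases hx : x ∈ s
    · exact hmax x (Multiset.mem_toFinset.2 hx)
    · rw [Multiset.count_eq_zero_of_notMem hx]; exact Nat.zero_le _
  set k := Nat.clog p E
  have hEk : E ≤ p ^ k := Nat.le_pow_clog hp.one_lt E
  have htot : ∑ x ∈ s.toFinset, s.count x = Fintype.card ι := by rw [Multiset.toFinset_sum_count_eq, hscard]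
  have hpos : ∀ x ∈ s.toFinset, 1 ≤ s.count x := fun x hx => Multiset.one_le_count_iff_mem.2 (Multiset.mem_toFinset.1 hx)
  have kill : ∀ (P : F[X]), P ≠ 0 → (∀ x ∈ s, s.count x ≤ (P.map φ).rootMultiplicity x) → aeval M P = 0 := by
    intro P hP hroots
    have h1 : χK ∣ P.map φ := by
      refine hspl.dvd_of_roots_le_roots hmon.ne_zero (Multiset.le_iff_count.2 fun x => ?_)
      by_cases hx : x ∈ s
      · exact (hroots x hx).trans_eq (count_roots _).symm
      · rw [Multiset.count_eq_zero_of_notMem hx]; exact Nat.zero_le _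
    rw [hχK, map_dvd_map' φ] at h1
    obtain ⟨w, rfl⟩ := h1
    rw [map_mul, hχ, aeval_self_charpoly, zero_mul]
  have powkill : ∀ (b : F) (r : ℕ), 0 < r → (∀ x ∈ s, x ^ r = φ b) → M ^ (r * p ^ k) = (b ^ p ^ k) • 1 := by
    intro b r hr hx
    have hne0 : (X ^ r - C b : F[X]) ≠ 0 := X_pow_sub_C_ne_zero hr b
    have h := kill ((X ^ r - C b) ^ p ^ k) (pow_ne_zero _ hne0) fun x hxs => by
      rw [Polynomial.map_pow]
      refine le_trans ((hEmax x).trans hEk) ?_
      have hroot : (X - C x) ∣ (X ^ r - C b : F[X]).map φ := by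
        rw [dvd_iff_isRoot, Polynomial.map_sub, Polynomial.map_pow, map_X, map_C]
        simp [hx x hxs]
      exact (le_rootMultiplicity_iff (pow_ne_zero _ (by
        rw [Ne, Polynomial.map_eq_zero]; exact hne0))).2 (pow_dvd_pow_of_dvd hroot _)
    rw [map_pow, map_sub, map_pow, aeval_X, aeval_C,
      sub_pow_char_pow_of_commute (p := p) k (Algebra.commute_algebraMap_right b (M ^ r)), sub_eq_zero,
      ← pow_mul, ← map_pow, Algebra.algebraMap_eq_smul_one] at h
    exact h
  have hqk : p ^ k ≤ q ^ k := Nat.pow_le_pow_left hpq k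
  rcases S.eq_empty_or_nonempty with hSe | hSne
  · by_cases hsame : ∀ x ∈ s.toFinset, x = β
    · refine ⟨p ^ k, pow_pos hp.pos _, ?_, ?_⟩
      · have hk : k ≤ m := by
          refine clog_le_half hp.two_le ?_ ?_
          · have := (Finset.single_le_sum (f := fun x => s.count x) (fun _ _ => Nat.zero_le _) hβ).trans_eq htot
            omega
          · have := (Finset.single_le_sum (f := fun x => s.count x) (fun _ _ => Nat.zero_le _) hβ).trans_eq htot
            rcases hN with h | ⟨-, -, h⟩
            · right; omega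
            · left; have := hodd.1 h; have := hp.two_le; omega
        calc (q - 1) * p ^ k ≤ q * q ^ k := Nat.mul_le_mul (Nat.sub_le _ _) hqk
          _ ≤ q ^ (m + 1) := by rw [← pow_succ']; exact Nat.pow_le_pow_right (by omega) (by omega)
      · have hβs := Multiset.mem_toFinset.1 hβ
        rcases hpm β hβs (by rw [hSe]; simp) with rfl | rfl
        · left
          have := powkill 1 1 one_pos fun x hx => by rw [hsame x (Multiset.mem_toFinset.2 hx), pow_one, map_one]
          rwa [one_mul, one_pow, one_smul] at this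
        · have := powkill (-1) 1 one_pos fun x hx => by
            rw [hsame x (Multiset.mem_toFinset.2 hx), pow_one, map_neg, map_one]
          rw [one_mul] at this
          rcases neg_one_pow_eq_or F (p ^ k) with e | e <;> rw [e] at this
          · left; rwa [one_smul] at this
          · right; rwa [neg_one_smul] at this
    · push_neg at hsame
      obtain ⟨γ, hγ, hγβ⟩ := hsame
      have hp2 : p ≠ 2 := fun e => by
        subst e
        have h1 : (-1 : K) = 1 := CharTwo.neg_eq 1
        apply hγβ
        rcases hpm γ (Multiset.mem_toFinset.1 hγ) (by rw [hSe]; simp) with h | h <;>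
          rcases hpm β (Multiset.mem_toFinset.1 hβ) (by rw [hSe]; simp) with h' | h' <;> simp only [h, h', h1]
      have hsum2 : E + 1 ≤ Fintype.card ι := by
        rw [← htot]
        calc E + 1 ≤ s.count β + s.count γ := Nat.add_le_add_left (hpos γ hγ) _
          _ = ∑ x ∈ {β, γ}, s.count x := (Finset.sum_pair (f := fun x => s.count x) (Ne.symm hγβ)).symm
          _ ≤ _ := Finset.sum_le_sum_of_subset (by
              intro x hx; simp only [Finset.mem_insert, Finset.mem_singleton] at hx
              rcases hx with rfl | rfl <;> assumption)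
      have hk : k + 1 ≤ m := by
        have hp3 : 3 ≤ p := by have := hp.two_le; omega
        rcases hN with ⟨h, hm⟩ | ⟨h, hm, -⟩
        · have : k ≤ m - 1 := clog_le_half hp.two_le (by omega) (Or.inl hp3)
          omega
        · have : k ≤ m - 1 := by
            rw [Nat.clog_le_iff_le_pow hp.one_lt]
            calc E ≤ 2 * m := by omega
              _ ≤ 3 ^ (m - 1) := two_mul_le_three_pow hm
              _ ≤ p ^ (m - 1) := Nat.pow_le_pow_left hp3 _
          omega
      refine ⟨2 * p ^ k, Nat.mul_pos two_pos (pow_pos hp.pos _), ?_, Or.inl ?_⟩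
      · calc (q - 1) * (2 * p ^ k) ≤ q * (q * q ^ k) :=
              Nat.mul_le_mul (Nat.sub_le _ _) (Nat.mul_le_mul hq2 hqk)
          _ ≤ q ^ (m + 1) := by rw [← pow_succ', ← pow_succ']; exact Nat.pow_le_pow_right (by omega) (by omega)
      · have := powkill 1 2 two_pos fun x hx => by
          rw [map_one]
          rcases hpm x hx (by rw [hSe]; simp) with rfl | rfl <;> simp
        rwa [one_pow, one_smul] at this
  · refine ⟨A * L * p ^ k, Nat.mul_pos (Nat.mul_pos hA hL) (pow_pos hp.pos _), ?_, Or.inl ?_⟩
    · have hk : a + ∑ j ∈ T, j + k ≤ m := by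
        have hcard : Fintype.card ι ≤ 2 * m + 1 := by omega
        by_cases hβS : β ∈ S
        · have hne' : β⁻¹ ≠ β := (Finset.mem_filter.1 hβS).2
          have hβ' : β⁻¹ ∈ S := Finset.mem_filter.2 ⟨Multiset.mem_toFinset.2 (Multiset.count_pos.1
            ((hcount β).symm ▸ Multiset.count_pos.2 (hSs β hβS))), by rw [inv_inv]; exact hne'.symm⟩
          have h1 : S.card + 2 * (E - 1) ≤ ∑ x ∈ S, s.count x := by
            rw [← Finset.sum_sdiff (show ({β, β⁻¹} : Finset K) ⊆ S by
              intro x hx; simp only [Finset.mem_insert, Finset.mem_singleton] at hx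
              rcases hx with rfl | rfl <;> assumption), Finset.sum_pair (Ne.symm hne'), hcount]
            have h2 : (S \ {β, β⁻¹}).card ≤ ∑ x ∈ S \ {β, β⁻¹}, s.count x := by
              rw [Finset.card_eq_sum_ones]
              exact Finset.sum_le_sum fun x hx => hpos x (Finset.mem_filter.1 (Finset.mem_sdiff.1 hx).1).1
            have h3 := Finset.card_sdiff_add_card_eq_card (show ({β, β⁻¹} : Finset K) ⊆ S by
              intro x hx; simp only [Finset.mem_insert, Finset.mem_singleton] at hx
              rcases hx with rfl | rfl <;> assumption)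
            rw [Finset.card_pair (Ne.symm hne')] at h3
            have := hpos β hβ
            omega
          have h4 : ∑ x ∈ S, s.count x ≤ Fintype.card ι := htot ▸ Finset.sum_le_sum_of_subset (Finset.filter_subset _ _)
          have := clog_le_pred (E := E) hp.two_le
          omega
        · have h1 : S.card + E ≤ Fintype.card ι := by
            rw [← htot]
            calc S.card + E ≤ (∑ x ∈ S, s.count x) + s.count β := by
                  refine Nat.add_le_add_right ?_ _
                  rw [Finset.card_eq_sum_ones]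
                  exact Finset.sum_le_sum fun x hx => hpos x (Finset.mem_filter.1 hx).1
              _ = ∑ x ∈ insert β S, s.count x := by rw [Finset.sum_insert hβS, add_comm]
              _ ≤ _ := Finset.sum_le_sum_of_subset (Finset.insert_subset hβ (Finset.filter_subset _ _))
          have h5 : k ≤ m - (a + ∑ j ∈ T, j) := by
            refine clog_le_half hp.two_le (by omega) ?_
            rcases hN with h | ⟨-, -, h⟩
            · right; omega
            · left; have := hodd.1 h; have := hp.two_le; omega
          omega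
      calc (q - 1) * (A * L * p ^ k) = A * ((q - 1) * L) * p ^ k := by ring
        _ ≤ q ^ a * q ^ (∑ j ∈ T, j + 1) * q ^ k := Nat.mul_le_mul (Nat.mul_le_mul hAa hLle) hqk
        _ ≤ q ^ (m + 1) := by
            rw [← pow_add, ← pow_add]; exact Nat.pow_le_pow_right (by omega) (by omega)
    · have := powkill 1 (A * L) (Nat.mul_pos hA hL) fun x hx => by
        rw [map_one]
        by_cases hxS : x ∈ S
        · exact hpow L hLdvd x hxS
        · rcases hpm x hx hxS with rfl | rfl
          · exact one_pow _
          · by_cases hq' : Odd q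
            · exact (even_iff_two_dvd.2 (heven hq' hSne L hLdvd)).neg_one_pow
            · have : p = 2 := not_not.1 fun e => hq' (hodd.2 e)
              subst this
              rw [CharTwo.neg_eq, one_pow]
      rwa [one_pow, one_smul] at this

/-- The matrices preserving a non-degenerate bilinear form. -/
theorem exists_power_of_form {M B : Matrix ι ι F} (hB : B.det ≠ 0) (h : Mᵀ * B * M = B) (m : ℕ)
    (hN : (Fintype.card ι = 2 * m ∧ 2 ≤ m) ∨ (Fintype.card ι = 2 * m + 1 ∧ 3 ≤ m ∧ Odd (Fintype.card F))) :
    ∃ n, 0 < n ∧ (Fintype.card F - 1) * n ≤ Fintype.card F ^ (m + 1) ∧ (M ^ n = 1 ∨ M ^ n = -1) := by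
  have hM : M.det ≠ 0 := fun e => by
    have := congrArg Matrix.det h
    rw [det_mul, det_mul, e, mul_zero] at this
    exact hB this.symm
  have hBu : IsUnit B.det := isUnit_iff_ne_zero.2 hB
  have hMu : IsUnit M.det := isUnit_iff_ne_zero.2 hM
  refine exists_power_pm_one M ((Matrix.isUnit_iff_isUnit_det M).2 hMu) ?_ m hN
  have hinv : M⁻¹ = B⁻¹ * Mᵀ * B := by
    refine Matrix.inv_eq_left_inv ?_
    rw [mul_assoc, mul_assoc, ← mul_assoc Mᵀ, h, Matrix.nonsing_inv_mul B hBu]
  rw [hinv]
  obtain ⟨U, hU⟩ := (Matrix.isUnit_iff_isUnit_det B).2 hBu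
  rw [← hU, Matrix.charpoly_units_conj' U, Matrix.charpoly_transpose]

end Cfsg.Agent.SelfDualOrder
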